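import Cfsg.Agent.Lib.Chev.Univ.SimplyLaced

/-! Certificates of root decompositions for E6, E7, E8, and the inclusions into E8. -/
set_option autoImplicit false
set_option maxRecDepth 100000
open Cfsg.Lie

namespace CfsgLib.Chev.Univ

def certE6 : Cert :=
  ⟨[(17, 34, 66),
    (18, 33, 66),
    (19, 31, 66),
    (20, 30, 66),
    (26, 23, 66),
    (27, 22, 66),
    (57, 2, 66),
    (58, 1, 66),
    (61, 0, 66),
    (21, 30, 65),
    (28, 22, 65),
    (59, 1, 65),
    (62, 0, 65),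
    (60, 1, 64),
    (63, 0, 64),
    (29, 22, 63),
    (64, 0, 63)],
   [[], [2, 0, 3, 2, 1, 3], [2, 0], [2, 0, 3, 2], [2, 0, 3, 2, 4, 3], [2, 0, 3, 2, 4, 3, 5, 4]]⟩

theorem certE6_ok : certOK chevE6 certE6 = true := by decide +kernel

/-- roots of E6 among those of E8 -/
def ioE6 : List ℕ :=
  [35, 45, 51, 54, 55, 61, 64, 65, 68, 69, 70, 73, 74, 75, 76, 77, 83, 86, 87, 90, 91, 92, 95, 96, 97, 98, 101, 102, 103, 104, 107, 108, 109, 112, 113, 116, 123, 126, 127, 130, 131, 132, 135, 136, 137, 138, 141, 142, 143, 144, 147, 148, 149, 152, 153, 156, 162, 163, 164, 165, 166, 169, 170, 171, 174, 175, 178, 184, 185, 188, 194, 204]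

def certE7 : Cert :=
  ⟨[(33, 16, 125),
    (34, 15, 125),
    (35, 14, 125),
    (36, 13, 125),
    (37, 12, 125),
    (38, 11, 125),
    (39, 10, 125),
    (40, 9, 125),
    (41, 8, 125),
    (42, 7, 125),
    (48, 6, 125),
    (49, 5, 125),
    (50, 4, 125),
    (51, 3, 125),
    (52, 2, 125),
    (94, 11, 108),
    (95, 8, 108),
    (96, 7, 108),
    (99, 4, 108),
    (100, 3, 108),
    (103, 2, 108),
    (97, 7, 107),
    (101, 3, 107),
    (104, 2, 107),
    (98, 7, 106),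
    (102, 3, 106),
    (105, 2, 106),
    (106, 2, 105),
    (107, 2, 104)],
   [[], [2, 0, 3, 2, 1, 3], [2, 0], [2, 0, 3, 2], [2, 0, 3, 2, 4, 3], [2, 0, 3, 2, 4, 3, 5, 4], [2, 0, 3, 2, 4, 3, 5, 4, 6, 5]]⟩

theorem certE7_ok : certOK chevE7 certE7 = true := by decide +kernel

/-- roots of E7 among those of E8 -/
def ioE7 : List ℕ :=
  [13, 20, 25, 29, 32, 34, 35, 39, 42, 44, 45, 48, 50, 51, 53, 54, 55, 58, 60, 61, 63, 64, 65, 67, 68, 69, 70, 72, 73, 74, 75, 76, 77, 80, 82, 83, 85, 86, 87, 89, 90, 91, 92, 94, 95, 96, 97, 98, 100, 101, 102, 103, 104, 106, 107, 108, 109, 111, 112, 113, 115, 116, 118, 121, 123, 124, 126, 127, 128, 130, 131, 132, 133, 135, 136, 137, 138, 139, 141, 142, 143, 144, 145, 147, 148, 149, 150, 152, 153, 154, 156, 157, 159, 162, 163, 164, 165, 166, 167, 169, 170, 171, 172, 174, 175, 176, 178, 179, 181, 184, 185, 186, 188, 189, 191, 194, 195, 197, 200, 204, 205, 207, 210, 214, 219, 226]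

def certE8 : Cert :=
  ⟨[(15, 98, 233),
    (16, 97, 233),
    (17, 96, 233),
    (18, 95, 233),
    (19, 94, 233),
    (20, 93, 233),
    (78, 35, 233),
    (79, 34, 233),
    (80, 33, 233),
    (81, 32, 233),
    (82, 31, 233),
    (83, 30, 233),
    (84, 29, 233),
    (85, 28, 233),
    (86, 27, 233),
    (87, 26, 233),
    (88, 25, 233),
    (89, 24, 233),
    (90, 23, 233),
    (91, 22, 233),
    (92, 21, 233),
    (163, 5, 233),
    (164, 4, 233),
    (165, 3, 233),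
    (166, 2, 233),
    (167, 1, 233),
    (168, 0, 233),
    (99, 25, 231),
    (100, 24, 231),
    (101, 23, 231),
    (102, 22, 231),
    (103, 21, 231),
    (169, 4, 231),
    (170, 3, 231),
    (171, 2, 231),
    (172, 1, 231),
    (173, 0, 231),
    (104, 21, 230),
    (174, 3, 230),
    (175, 2, 230),
    (176, 1, 230),
    (177, 0, 230),
    (178, 2, 229),
    (179, 1, 229),
    (180, 0, 229),
    (181, 1, 228),
    (182, 0, 228),
    (183, 0, 227),
    (226, 1, 183),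
    (227, 0, 183),
    (228, 0, 182),
    (229, 0, 180),
    (230, 0, 177)],
   [[], [2, 0, 3, 2, 1, 3], [2, 0], [2, 0, 3, 2], [2, 0, 3, 2, 4, 3], [2, 0, 3, 2, 4, 3, 5, 4], [2, 0, 3, 2, 4, 3, 5, 4, 6, 5], [2, 0, 3, 2, 4, 3, 5, 4, 6, 5, 7, 6]]⟩

theorem certE8_ok : certOK chevE8 certE8 = true := by decide +kernel

end CfsgLib.Chev.Univ
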