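import Cfsg.Agent.Lib.Chev.Univ.TorusLift

/-! Certificates for the torus method. -/
set_option autoImplicit false
set_option maxRecDepth 100000
open Cfsg.Lie

namespace CfsgLib.Chev.Univ.TorusLift

/-- exponents for fields with more than four elements -/
def modeBig (two okB : Bool) : Mode :=
  ⟨fun e => e == 0, fun e => decide (e ≠ 0) && decide (e.natAbs ≤ 3), true, okB, two⟩

/-- exponents for the field with three elements -/
def modeThree : Mode := ⟨fun e => e % 2 == 0, fun e => e % 2 != 0, false, false, true⟩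

/-- exponents for the field with four elements -/
def modeFour : Mode := ⟨fun e => e % 3 == 0, fun e => e % 3 != 0, false, false, false⟩

def tcG2 : Cert :=
  ⟨[[0, -1], [-1, -1], [-1, -2], [-1, 0], [1, 3], [-2, -3], [0, -2], [0, 1], [2, 2]],
   [([], [6, 7, 8, 9, 10, 11]),
    ([1, 0, 1, 0, 1, 0], [0, 1, 2, 3, 4, 5]),
    ([0, 1, 0], [1, 2, 4, 6, 8, 11]),
    ([1, 0, 1], [0, 3, 5, 7, 9, 10]),
    ([0], [4, 6, 8, 9, 10, 11]),
    ([1], [5, 7, 8, 9, 10, 11]),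
    ([1, 0, 1, 0], [0, 1, 2, 4, 6, 8]),
    ([0, 1, 0, 1], [0, 2, 3, 5, 7, 10])],
   [(0, 6, 1), (0, 10, 5), (1, 5, 0), (1, 11, 6), (5, 11, 10), (6, 10, 11)]⟩

theorem tcG2_ws : wsOK chevG2 tcG2 = true := by decide +kernel

theorem tcG2_big : ((List.range 12).all fun r => rootOK chevG2 (modeBig false false) tcG2 r) = true := by decide +kernel

def tcB2 : Cert :=
  ⟨[[-1, 0], [0, -1], [1, 1], [-1, -2], [2, 2], [0, 1]],
   [([], [4, 5, 6, 7]),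
    ([1, 0, 1, 0], [0, 1, 2, 3]),
    ([1, 0], [0, 2, 4, 6]),
    ([0, 1], [1, 3, 5, 7])],
   [(1, 2, 0), (1, 5, 3), (2, 6, 4), (5, 6, 7)]⟩

theorem tcB2_ws : wsOK chevB2 tcB2 = true := by decide +kernel

theorem tcB2_odd : ((List.range 8).all fun r => rootOK chevB2 (modeBig true false) tcB2 r) = true := by decide +kernel

theorem tcB2_even : ((List.range 8).all fun r => rootOK chevB2 (modeBig false true) tcB2 r) = true := by decide +kernel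

def tcD4 : Cert :=
  ⟨[[-1, 0, 0, 0], [0, -1, 0, 0], [1, 1, 0, 0], [0, 0, -1, 1], [-1, -2, -1, -2], [1, 2, 2, 1], [0, 0, -1, 0], [-1, 0, -1, 0], [-1, 0, 0, 1], [1, 0, 0, 0], [0, 1, 0, 0]],
   [([], [12, 13, 14, 15, 16, 17, 18, 19, 20, 21, 22, 23]),
    ([3, 1, 2, 0, 1, 3, 0, 1, 2, 0, 1, 0], [0, 1, 2, 3, 4, 5, 6, 7, 8, 9, 10, 11]),
    ([1, 3, 2, 0], [1, 5, 10, 11, 14, 15, 16, 17, 19, 20, 21, 23]),
    ([3, 2, 0, 1], [4, 7, 8, 9, 12, 13, 17, 18, 20, 21, 22, 23]),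
    ([3, 2, 1, 0], [2, 3, 4, 5, 12, 13, 14, 15, 16, 17, 22, 23]),
    ([3, 1, 2], [6, 7, 10, 12, 14, 15, 18, 19, 20, 21, 22, 23])],
   [(0, 14, 1), (0, 17, 4), (0, 20, 7), (0, 21, 8), (1, 9, 0), (1, 23, 14), (4, 23, 17), (7, 23, 20), (8, 23, 21), (14, 22, 23), (1, 17, 5), (1, 20, 10), (1, 21, 11), (4, 18, 9), (7, 21, 18), (4, 20, 12), (4, 21, 13), (2, 11, 1), (15, 21, 23), (1, 12, 2), (1, 13, 3), (1, 18, 6), (2, 13, 4), (2, 18, 7), (3, 18, 8), (2, 23, 15), (3, 23, 16), (6, 23, 19), (9, 23, 22)]⟩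

theorem tcD4_ws : wsOK chevD4 tcD4 = true := by decide +kernel

theorem tcD4_big : ((List.range 24).all fun r => rootOK chevD4 (modeBig false false) tcD4 r) = true := by decide +kernel

theorem tcD4_four : ((List.range 24).all fun r => rootOK chevD4 modeFour tcD4 r) = true := by decide +kernel

def tcF4 : Cert :=
  ⟨[[0, 0, -1, 0], [-1, 0, 0, 0], [0, 0, 0, -1], [0, 0, 1, 1], [-1, -3, -2, -1], [1, 0, 1, -1], [0, -1, -2, -2], [0, -1, -1, 0], [-1, -1, 0, 0], [1, 2, 2, 2], [1, 0, -1, 1], [-2, 0, 0, 0], [2, 0, -1, -1], [0, 2, 0, 0], [0, -2, 0, 0]],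
   [([], [24, 25, 26, 27, 28, 29, 30, 31, 32, 33, 34, 35, 36, 37, 38, 39, 40, 41, 42, 43, 44, 45, 46, 47]),
    ([3, 2, 1, 2, 0, 1, 2, 3, 2, 1, 2, 0, 1, 2, 3, 2, 1, 2, 0, 1, 2, 0, 1, 0], [0, 1, 2, 3, 4, 5, 6, 7, 8, 9, 10, 11, 12, 13, 14, 15, 16, 17, 18, 19, 20, 21, 22, 23]),
    ([2, 3, 1, 2, 0, 1, 2, 3, 2, 0, 1, 0], [0, 2, 3, 5, 6, 9, 11, 13, 14, 16, 20, 23, 25, 26, 28, 29, 30, 32, 35, 37, 39, 40, 43, 46]),
    ([3, 1, 2, 0, 1, 2, 3, 1, 2, 0, 1, 2], [1, 4, 7, 8, 10, 12, 15, 17, 18, 19, 21, 22, 24, 27, 31, 33, 34, 36, 38, 41, 42, 44, 45, 47]),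
    ([3, 2, 1, 2, 3, 1, 2, 0, 1, 2, 1, 0], [1, 2, 3, 4, 5, 6, 10, 12, 13, 14, 19, 22, 24, 26, 27, 29, 30, 31, 32, 36, 38, 39, 40, 47]),
    ([0, 1, 2, 3, 1, 2, 0, 1, 2, 3, 2, 1], [0, 7, 8, 9, 11, 15, 16, 17, 18, 20, 21, 23, 25, 28, 33, 34, 35, 37, 41, 42, 43, 44, 45, 46]),
    ([2, 1], [17, 20, 24, 25, 26, 28, 29, 31, 32, 33, 34, 35, 36, 37, 38, 39, 40, 41, 42, 43, 44, 45, 46, 47]),
    ([1, 2, 3, 0], [11, 14, 21, 23, 25, 27, 28, 29, 30, 31, 32, 34, 35, 37, 38, 39, 40, 41, 42, 43, 44, 45, 46, 47])],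
   [(0, 24, 1), (0, 32, 5), (0, 43, 16), (0, 45, 21), (1, 23, 0), (1, 47, 24), (5, 47, 32), (16, 47, 43), (21, 47, 45), (24, 46, 47), (1, 32, 6), (1, 43, 17), (1, 45, 22), (3, 18, 0), (3, 29, 6), (5, 41, 23), (16, 45, 41), (18, 44, 41), (29, 44, 47), (5, 43, 25), (5, 45, 30), (3, 19, 1), (3, 28, 5), (19, 44, 42), (28, 44, 46), (1, 25, 2), (1, 30, 4), (1, 41, 15), (25, 45, 46), (2, 47, 26), (3, 20, 2), (3, 27, 4), (4, 47, 31), (15, 47, 42), (20, 44, 43), (27, 44, 45), (7, 34, 15), (9, 39, 25), (12, 40, 31), (7, 35, 16), (8, 38, 22), (13, 40, 32), (7, 14, 3), (7, 36, 17), (8, 37, 21), (9, 19, 7), (28, 38, 40), (33, 40, 44), (2, 22, 1), (9, 37, 23), (10, 38, 24), (11, 19, 8), (28, 36, 39), (2, 30, 5), (6, 42, 24), (15, 25, 16), (22, 46, 45), (3, 35, 9), (10, 39, 26), (11, 40, 30), (12, 44, 38), (0, 26, 2), (0, 31, 4), (0, 42, 15), (0, 46, 23), (2, 21, 0), (2, 42, 17), (2,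 46, 25), (4, 42, 22), (7, 11, 0), (7, 12, 1), (7, 13, 2), (9, 12, 3), (15, 46, 41), (17, 45, 42), (17, 46, 43), (22, 32, 31), (23, 47, 46), (26, 45, 47), (34, 40, 45), (35, 38, 44), (35, 40, 46), (36, 40, 47), (12, 20, 10), (27, 35, 37), (2, 31, 6), (4, 17, 1), (4, 25, 5), (4, 46, 30), (6, 46, 32), (8, 14, 4), (8, 33, 15), (9, 14, 5), (9, 33, 16), (10, 14, 6), (10, 33, 17), (11, 34, 21), (11, 35, 23), (12, 34, 22), (12, 36, 24), (13, 35, 25), (13, 36, 26), (14, 37, 30), (14, 38, 31), (14, 39, 32), (22, 43, 42), (30, 43, 46), (33, 37, 41), (33, 38, 42), (33, 39, 43), (3, 37, 11), (3, 38, 12), (3, 39, 13), (3, 40, 14), (7, 37, 18), (7, 38, 19), (7, 39, 20), (7, 44, 33), (8, 40, 27), (8, 44, 34), (9, 40, 28), (9, 44, 35), (10, 40, 29), (10, 44, 36)]⟩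

theorem tcF4_ws : wsOK chevF4 tcF4 = true := by decide +kernel

theorem tcF4_big : ((List.range 48).all fun r => rootOK chevF4 (modeBig false false) tcF4 r) = true := by decide +kernel

theorem tcF4_three : ((List.range 48).all fun r => rootOK chevF4 modeThree tcF4 r) = true := by decide +kernel

theorem tcF4_four : ((List.range 48).all fun r => rootOK chevF4 modeFour tcF4 r) = true := by decide +kernel

end CfsgLib.Chev.Univ.TorusLift
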